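import Mathlib

/-!
# A scheme over a field with open diagonal range is discrete
-/

set_option autoImplicit false
set_option backward.isDefEq.respectTransparency false
universe u

open CategoryTheory Limits AlgebraicGeometry

namespace Groth.Agent.Lib.FinQuot.Discrete

/-- If a flat cover `π` of `X` has open kernel pair in `A ×_S A`, the diagonal of `X` has open range. -/
theorem isOpen_range_diagonal {A X S R : Scheme.{u}} (hA : A ⟶ S) (hX : X ⟶ S) (π : A ⟶ X) (w : π ≫ hX = hA)
    [Surjective π] [UniversallyOpen π] (a b : R ⟶ A) (sq : IsPullback a b π π)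
    (l : R ⟶ pullback hA hA) (l1 : l ≫ pullback.fst hA hA = a) (l2 : l ≫ pullback.snd hA hA = b)
    (hl : IsOpen (Set.range l)) : IsOpen (Set.range (pullback.diagonal hX)) := by
  subst w
  let M := pullback.map (π ≫ hX) (π ≫ hX) hX hX π π (𝟙 S) (Category.comp_id _) (Category.comp_id _)
  have sq' := pullback_map_diagonal_isPullback π π hX
  have hl' : l = sq.isoPullback.hom ≫ pullback.map π π (π ≫ hX) (π ≫ hX) (𝟙 _) (𝟙 _) hX
      (Category.id_comp _).symm (Category.id_comp _).symm := by
    apply pullback.hom_ext <;> simp [l1, l2]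
  have hr : Set.range l = M ⁻¹' Set.range (pullback.diagonal hX) := by
    rw [hl', Scheme.Hom.comp_base, TopCat.coe_comp,
      Function.Surjective.range_comp (sq.isoPullback.hom.surjective),
      ← sq'.isoPullback_hom_snd, Scheme.Hom.comp_base, TopCat.coe_comp,
      Function.Surjective.range_comp (sq'.isoPullback.hom.surjective)]
    exact Scheme.Pullback.range_snd _ _
  haveI : Surjective M := MorphismProperty.pullbackMap (P := @Surjective) inferInstance inferInstance rfl rfl
  haveI : UniversallyOpen M := MorphismProperty.pullbackMap (P := @UniversallyOpen) inferInstance inferInstance rfl rfl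
  have h := M.isOpenMap _ hl
  rwa [hr, Set.image_preimage_eq _ M.surjective] at h

/-- Over a field, open diagonal range implies discreteness. -/
theorem discreteTopology {k : Type u} [Field k] {X : Scheme.{u}} (hX : X ⟶ Spec (CommRingCat.of k))
    (hD : IsOpen (Set.range (pullback.diagonal hX))) : DiscreteTopology X := by
  refine discreteTopology_iff_isOpen_singleton.mpr fun x => ?_
  let c := X.fromSpecResidueField x
  let p := pullback.snd (c ≫ hX) hX
  let m : pullback (c ≫ hX) hX ⟶ pullback hX hX :=
    pullback.map _ _ _ _ c (𝟙 X) (𝟙 _) (by simp) (by simp)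
  haveI : UniversallyOpen p := UniversallyOpen.snd (c ≫ hX) hX
  have h := p.isOpenMap _ (hD.preimage m.continuous)
  convert h
  apply Set.Subset.antisymm
  · intro y hy
    rw [Set.mem_singleton_iff] at hy
    subst y
    obtain ⟨t⟩ : Nonempty ↑(Spec (X.residueField x)) := inferInstance
    have e : pullback.lift (f := c ≫ hX) (g := hX) (𝟙 _) c (Category.id_comp _) ≫ m = c ≫ pullback.diagonal hX := by
      apply pullback.hom_ext <;> simp [m] <;> exact Category.id_comp _
    refine ⟨pullback.lift (f := c ≫ hX) (g := hX) (𝟙 _) c (Category.id_comp _) t, ⟨c t, ?_⟩, ?_⟩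
    · rw [← Scheme.Hom.comp_apply, ← e, Scheme.Hom.comp_apply]
    · rw [← Scheme.Hom.comp_apply, pullback.lift_snd]
      exact X.fromSpecResidueField_apply x t
  · rintro _ ⟨q, ⟨z, hz⟩, rfl⟩
    have h1 := congrArg (pullback.fst hX hX) hz
    have h2 := congrArg (pullback.snd hX hX) hz
    rw [← Scheme.Hom.comp_apply, pullback.diagonal_fst, ← Scheme.Hom.comp_apply] at h1
    rw [← Scheme.Hom.comp_apply, pullback.diagonal_snd, ← Scheme.Hom.comp_apply] at h2
    rw [show m ≫ pullback.fst hX hX = pullback.fst (c ≫ hX) hX ≫ c from pullback.lift_fst _ _ _,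
      Scheme.Hom.comp_apply] at h1
    rw [show m ≫ pullback.snd hX hX = pullback.snd (c ≫ hX) hX from
      (pullback.lift_snd _ _ _).trans (Category.comp_id _)] at h2
    rw [Set.mem_singleton_iff, ← h2]
    refine Eq.trans ?_ (X.fromSpecResidueField_apply x (pullback.fst (c ≫ hX) hX q))
    exact h1

end Groth.Agent.Lib.FinQuot.Discrete
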